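import Groth.Agent.Proj16.Points
import Groth.Agent.S2085
import Mathlib

/-!
# Local rings of `Proj`: normality and the condition `S₁`
-/

universe u

open DirectSum

namespace Groth.Agent.H6ProjLocal

variable {A : Type u} [CommRing A] {σ : Type*} [SetLike σ A] [AddSubgroupClass σ A] {𝒜 : ℕ → σ} [GradedRing 𝒜]

/-- Minimal primes are homogeneous. -/
theorem minimalPrime_isHomogeneous {Q : Ideal A} (hQ : Q ∈ minimalPrimes A) : Q.IsHomogeneous 𝒜 := by
  have hge : (Q.homogeneousCore 𝒜).toIdeal ≤ Q := Ideal.toIdeal_homogeneousCore_le _ _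
  exact (Ideal.IsHomogeneous.iff_eq _ _).2 (le_antisymm hge (hQ.2 ⟨hQ.1.1.homogeneousCore, bot_le⟩ hge))

theorem exists_component_notMem {Q : Ideal A} {a : A} (ha : a ∉ Q) : ∃ i, (decompose 𝒜 a i : A) ∉ Q := by
  classical
  by_contra h
  simp only [not_exists, not_not] at h
  apply ha
  rw [← DirectSum.sum_support_decompose 𝒜 a]
  exact Q.sum_mem fun i _ => h i

theorem component_mul {a b : A} {i : ℕ} (hb : b ∈ 𝒜 i) (j : ℕ) :
    (decompose 𝒜 (a * b) (j + i) : A) = (decompose 𝒜 a j : A) * b := by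
  rw [DirectSum.coe_decompose_mul_of_right_mem _ _ hb, if_pos (Nat.le_add_left i j), Nat.add_sub_cancel]

variable {P : Ideal A} [P.IsPrime]

theorem isDomain (h : IsDomain (Localization.AtPrime P)) : IsDomain (HomogeneousLocalization.AtPrime 𝒜 P) :=
  haveI := h
  (HomogeneousLocalization.val_injective (𝒜 := 𝒜) P.primeCompl).isDomain
    (algebraMap (HomogeneousLocalization.AtPrime 𝒜 P) (Localization.AtPrime P))

theorem isIntegrallyClosed (h : IsDomain (Localization.AtPrime P)) (h' : IsIntegrallyClosed (Localization.AtPrime P)) :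
    IsIntegrallyClosed (HomogeneousLocalization.AtPrime 𝒜 P) := by
  classical
  haveI := h
  haveI := h'
  haveI := isDomain (𝒜 := 𝒜) h
  let S := HomogeneousLocalization.AtPrime 𝒜 P
  let F := Localization.AtPrime P
  have hinj : Function.Injective (algebraMap S F) := HomogeneousLocalization.val_injective (𝒜 := 𝒜) P.primeCompl
  rw [isIntegrallyClosed_iff (FractionRing S)]
  intro x hx
  let g : FractionRing S →+* FractionRing F :=
    IsLocalization.lift (M := nonZeroDivisors S) (g := (algebraMap F (FractionRing F)).comp (algebraMap S F))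
      fun z => isUnit_iff_ne_zero.2 fun h0 => nonZeroDivisors.ne_zero z.2
        (hinj ((IsFractionRing.injective F (FractionRing F) (h0.trans (map_zero _).symm)).trans (map_zero (algebraMap S F)).symm))
  have hg : ∀ z, g (algebraMap S _ z) = algebraMap F (FractionRing F) (algebraMap S F z) :=
    fun z => IsLocalization.lift_eq _ z
  have hint : IsIntegral F (g x) := by
    obtain ⟨p, hp, hpx⟩ := hx
    refine ⟨p.map (algebraMap S F), hp.map _, ?_⟩
    rw [Polynomial.eval₂_map, ← show g.comp (algebraMap S (FractionRing S)) =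
      (algebraMap F (FractionRing F)).comp (algebraMap S F) from RingHom.ext hg, ← Polynomial.hom_eval₂, hpx, map_zero]
  obtain ⟨w, hw⟩ := IsIntegrallyClosed.algebraMap_eq_of_integral hint
  obtain ⟨y, z, hz, rfl⟩ := IsFractionRing.div_surjective S x
  have hz0 : z ≠ 0 := nonZeroDivisors.ne_zero hz
  have key : algebraMap S F y = algebraMap S F z * w := by
    refine IsFractionRing.injective F (FractionRing F) ?_
    rw [map_mul, hw, ← hg y, ← hg z, ← map_mul, mul_div_cancel₀ _ ((map_ne_zero_iff _ (IsFractionRing.injective S _)).2 hz0)]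
  obtain ⟨ey, rfl⟩ := HomogeneousLocalization.mk_surjective y
  obtain ⟨ez, rfl⟩ := HomogeneousLocalization.mk_surjective z
  obtain ⟨⟨c, u⟩, hcu⟩ := IsLocalization.surj P.primeCompl w
  have hy : algebraMap S F (HomogeneousLocalization.mk ey) * algebraMap A F (ey.den : A) = algebraMap A F (ey.num : A) := by
    change Localization.mk _ _ * _ = _
    rw [Localization.mk_eq_mk', IsLocalization.mk'_spec]
  have hzz : algebraMap S F (HomogeneousLocalization.mk ez) * algebraMap A F (ez.den : A) = algebraMap A F (ez.num : A) := by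
    change Localization.mk _ _ * _ = _
    rw [Localization.mk_eq_mk', IsLocalization.mk'_spec]
  obtain ⟨v, hv⟩ := (IsLocalization.eq_iff_exists P.primeCompl F).1
    (show algebraMap A F ((u : A) * ((ey.num : A) * (ez.den : A))) = algebraMap A F (c * ((ez.num : A) * (ey.den : A))) by
      rw [map_mul, map_mul, map_mul, map_mul, ← hy, ← hzz, ← hcu, key]
      ring)
  have hU : (v : A) * (u : A) ∉ P := P.primeCompl.mul_mem v.2 u.2
  obtain ⟨j, hj⟩ := exists_component_notMem (𝒜 := 𝒜) hU
  have hdeg1 : (ey.num : A) * (ez.den : A) ∈ 𝒜 (ey.deg + ez.deg) := SetLike.mul_mem_graded ey.num.2 ez.den.2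
  have hdeg2 : (ez.num : A) * (ey.den : A) ∈ 𝒜 (ey.deg + ez.deg) := by
    rw [add_comm]
    exact SetLike.mul_mem_graded ez.num.2 ey.den.2
  have hcomp := congrArg (fun t => (decompose 𝒜 t (j + (ey.deg + ez.deg)) : A)) hv
  simp only [← mul_assoc (v : A)] at hcomp
  rw [component_mul hdeg1, component_mul hdeg2] at hcomp
  let e : HomogeneousLocalization.NumDenSameDeg 𝒜 P.primeCompl :=
    ⟨j, decompose 𝒜 ((v : A) * c) j, decompose 𝒜 ((v : A) * u) j, hj⟩
  refine ⟨HomogeneousLocalization.mk e, ?_⟩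
  rw [eq_div_iff ((map_ne_zero_iff _ (IsFractionRing.injective S _)).2 hz0), ← map_mul]
  refine congrArg _ (hinj ?_)
  rw [map_mul]
  change Localization.mk _ _ * Localization.mk _ _ = Localization.mk _ _
  rw [Localization.mk_mul, Localization.mk_eq_mk_iff, Localization.r_iff_exists]
  refine ⟨1, ?_⟩
  simp only [Submonoid.coe_mul, OneMemClass.coe_one, one_mul, e]
  linear_combination (-1 : A) * hcomp

theorem exists_mul_pow_eq_zero {Q : Ideal A} (hQ : Q ∈ minimalPrimes A) {z : A} (hz : z ∈ Q) :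
    ∃ c ∉ Q, ∃ n : ℕ, c * z ^ n = 0 := by
  haveI := hQ.1.1
  by_contra h
  simp only [not_exists, not_and] at h
  obtain ⟨R, hR, -, hdis⟩ := (⊥ : Ideal A).exists_le_prime_disjoint (Q.primeCompl ⊔ Submonoid.powers z)
    (Set.disjoint_left.2 fun a ha ha' => by
      obtain ⟨c, hc, _, ⟨n, rfl⟩, rfl⟩ := Submonoid.mem_sup.1 ha'
      exact h c hc n ha)
  have hle : R ≤ Q := fun a ha => by_contra fun haQ =>
    Set.disjoint_left.1 hdis ha (Submonoid.mem_sup_left (S := Q.primeCompl) (show a ∈ Q.primeCompl from haQ))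
  exact Set.disjoint_left.1 hdis (hQ.2 ⟨hR, bot_le⟩ hle hz) (Submonoid.mem_sup_right (Submonoid.mem_powers z))

theorem associatedPrimes_minimal [IsNoetherianRing A] [IsNoetherianRing (HomogeneousLocalization.AtPrime 𝒜 P)]
    (hA : LocCoh.HasSk 1 A A) (hP : ¬ (HomogeneousIdeal.irrelevant 𝒜).toIdeal ≤ P)
    (q : Ideal (HomogeneousLocalization.AtPrime 𝒜 P))
    (hq : q ∈ associatedPrimes (HomogeneousLocalization.AtPrime 𝒜 P) (HomogeneousLocalization.AtPrime 𝒜 P)) :
    q ∈ minimalPrimes (HomogeneousLocalization.AtPrime 𝒜 P) := by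
  classical
  obtain ⟨hqp, y, hy⟩ := isAssociatedPrime_iff.1 hq
  haveI := hqp
  let S := HomogeneousLocalization.AtPrime 𝒜 P
  have hq' : ∀ x : S, x ∈ q ↔ x * y = 0 := fun x => by
    rw [hy, Submodule.mem_colon_singleton, Submodule.mem_bot, smul_eq_mul]
  obtain ⟨ey, rfl⟩ := HomogeneousLocalization.mk_surjective y
  have hzero : ∀ e : HomogeneousLocalization.NumDenSameDeg 𝒜 P.primeCompl,
      HomogeneousLocalization.mk e ∈ q ↔ ∃ w ∈ P.primeCompl, w * ((e.num : A) * (ey.num : A)) = 0 := fun e => by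
    rw [hq', ← (HomogeneousLocalization.val_injective (𝒜 := 𝒜) P.primeCompl).eq_iff, HomogeneousLocalization.val_mul,
      HomogeneousLocalization.val_zero, HomogeneousLocalization.val_mk, HomogeneousLocalization.val_mk,
      Localization.mk_mul, Localization.mk_eq_mk', IsLocalization.mk'_eq_zero_iff]
    exact ⟨fun ⟨w, hw⟩ => ⟨w, w.2, hw⟩, fun ⟨w, hw, e⟩ => ⟨⟨w, hw⟩, e⟩⟩
  let K : Ideal A :=
    { carrier := {c | ∃ w ∈ P.primeCompl, w * (c * (ey.num : A)) = 0}
      add_mem' := by
        rintro a b ⟨w, hw, ea⟩ ⟨w', hw', eb⟩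
        exact ⟨w * w', mul_mem hw hw', by linear_combination w' * ea + w * eb⟩
      zero_mem' := ⟨1, one_mem _, by simp⟩
      smul_mem' := by
        rintro c a ⟨w, hw, ea⟩
        exact ⟨w, hw, by rw [smul_eq_mul]; linear_combination c * ea⟩ }
  let W : Submonoid A :=
    { carrier := {x | ∃ u ∈ P.primeCompl, ∃ e : HomogeneousLocalization.NumDenSameDeg 𝒜 P.primeCompl,
        HomogeneousLocalization.mk e ∉ q ∧ x = u * (e.num : A)}
      one_mem' := ⟨1, one_mem _, 1, fun h => hqp.ne_top (Ideal.eq_top_iff_one q |>.2 (by simpa using h)), by simp⟩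
      mul_mem' := by
        rintro _ _ ⟨u, hu, e, he, rfl⟩ ⟨u', hu', e', he', rfl⟩
        refine ⟨u * u', mul_mem hu hu', e * e', ?_, by simp; ring⟩
        rw [HomogeneousLocalization.mk_mul]
        exact fun h => (hqp.mem_or_mem h).elim he he' }
  obtain ⟨Q₀, hQ₀, hKQ, hdis⟩ := K.exists_le_prime_disjoint W (Set.disjoint_left.2 fun x hx hx' => by
    obtain ⟨u, hu, e, he, rfl⟩ := hx'
    obtain ⟨w, hw, hwe⟩ := hx
    exact he ((hzero e).2 ⟨w * u, mul_mem hw hu, by linear_combination hwe⟩))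
  obtain ⟨Q, hQ, hQQ₀⟩ := Ideal.exists_minimalPrimes_le hKQ
  haveI := hQ.1.1
  have hWQ : ∀ x ∈ W, x ∉ Q := fun x hx hxQ => Set.disjoint_left.1 hdis (hQQ₀ hxQ) hx
  have hPQ : ∀ w ∈ P.primeCompl, w ∉ Q := fun w hw => hWQ w
    ⟨w, hw, 1, fun h => hqp.ne_top (Ideal.eq_top_iff_one q |>.2 (by simpa using h)), by simp⟩
  have hKQ' : K ≤ Q := hQ.1.2
  let N : Submodule A A := Submodule.span A {(ey.num : A)}
  have hann : Q ∈ (Module.annihilator A N).minimalPrimes := by
    refine ⟨⟨hQ.1.1, fun c hc => hKQ' ⟨1, one_mem _, ?_⟩⟩, fun R hR hle => hQ.2 ⟨hR.1, fun c hc => ?_⟩ hle⟩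
    · have := congrArg Subtype.val (Module.mem_annihilator.1 hc ⟨(ey.num : A), Submodule.mem_span_singleton_self _⟩)
      simpa using this
    · obtain ⟨w, hw, hwc⟩ := hc
      refine (hR.1.mem_or_mem (hR.2 (Module.mem_annihilator.2 fun m => ?_) : w * c ∈ R)).resolve_left
        fun hwR => hPQ w hw (hle hwR)
      obtain ⟨a, ha⟩ := Submodule.mem_span_singleton.1 m.2
      refine Subtype.ext ?_
      change (w * c) * (m : A) = 0
      rw [← ha, smul_eq_mul]
      linear_combination a * hwc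
  have hQass : Q ∈ associatedPrimes A A :=
    associatedPrimes.subset_of_injective (Submodule.injective_subtype N)
      (Module.associatedPrimes.minimalPrimes_annihilator_subset_associatedPrimes A N hann)
  have hQmin : Q ∈ minimalPrimes A := by
    have := (S2085.result (R := A) (M := A)).2 hA Q hQass
    rwa [Module.annihilator_eq_bot.2 inferInstance] at this
  obtain ⟨q', hq'min, hq'le⟩ := Ideal.exists_minimalPrimes_le (bot_le : (⊥ : Ideal S) ≤ q)
  haveI := hq'min.1.1
  suffices q ≤ q' by rwa [le_antisymm this hq'le]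
  intro z hz
  obtain ⟨e, rfl⟩ := HomogeneousLocalization.mk_surjective z
  have heQ : (e.num : A) ∈ Q := hKQ' ((hzero e).1 hz)
  obtain ⟨c, hc, n, hcn⟩ := exists_mul_pow_eq_zero hQmin heQ
  obtain ⟨i, hi⟩ := exists_component_notMem (𝒜 := 𝒜) hc
  have hcin : (decompose 𝒜 c i : A) * (e.num : A) ^ n = 0 := by
    rw [← component_mul (SetLike.pow_mem_graded n e.num.2), hcn, decompose_zero]
    rfl
  obtain ⟨a, ha, haP⟩ := SetLike.not_le_iff_exists.1 hP
  obtain ⟨d, hd⟩ := exists_component_notMem (𝒜 := 𝒜) haP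
  have hd0 : d ≠ 0 := by
    rintro rfl
    refine hd ?_
    rw [show (decompose 𝒜 a 0 : A) = 0 from ha]
    exact zero_mem _
  let f : HomogeneousLocalization.NumDenSameDeg 𝒜 P.primeCompl :=
    ⟨d * i, ⟨(decompose 𝒜 c i : A) ^ d, by simpa [smul_eq_mul] using SetLike.pow_mem_graded d (decompose 𝒜 c i).2⟩,
      ⟨(decompose 𝒜 a d : A) ^ i, by simpa [smul_eq_mul, mul_comm] using SetLike.pow_mem_graded i (decompose 𝒜 a d).2⟩,
      fun h => hd (‹P.IsPrime›.mem_of_pow_mem i h)⟩
  have hf : HomogeneousLocalization.mk f ∉ q := fun h => hi (hQ.1.1.mem_of_pow_mem d (hKQ' ((hzero f).1 h)))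
  have hprod : HomogeneousLocalization.mk f * HomogeneousLocalization.mk e ^ n = 0 := by
    refine HomogeneousLocalization.val_injective (𝒜 := 𝒜) P.primeCompl ?_
    rw [HomogeneousLocalization.val_mul, HomogeneousLocalization.val_pow, HomogeneousLocalization.val_zero,
      HomogeneousLocalization.val_mk, HomogeneousLocalization.val_mk, Localization.mk_pow, Localization.mk_mul,
      Localization.mk_eq_mk', IsLocalization.mk'_eq_zero_iff]
    refine ⟨1, ?_⟩
    obtain ⟨d', rfl⟩ := Nat.exists_eq_succ_of_ne_zero hd0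
    simp only [OneMemClass.coe_one, one_mul, f, pow_succ, mul_assoc, hcin, mul_zero]
  have hmem : HomogeneousLocalization.mk f * HomogeneousLocalization.mk e ^ n ∈ q' := by
    rw [hprod]
    exact zero_mem _
  rcases ‹q'.IsPrime›.mem_or_mem hmem with h | h
  · exact absurd (hq'le h) hf
  · exact ‹q'.IsPrime›.mem_of_pow_mem n h

end Groth.Agent.H6ProjLocal
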