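import Groth.Agent.H6ProjLocal.Basic
import Groth.Agent.Hensel.DepthFlat
import Groth.Agent.LC.ExtDim
import Mathlib

/-!
# Local rings of `Proj` of a Cohen–Macaulay ring
-/

universe u

open DirectSum IsLocalRing
open scoped Pointwise

namespace Groth.Agent.H6ProjLocal

variable {A : Type u} [CommRing A] {σ : Type*} [SetLike σ A] [AddSubgroupClass σ A] {𝒜 : ℕ → σ} [GradedRing 𝒜]
variable {P : Ideal A} [P.IsPrime]

local notation "S" => HomogeneousLocalization.AtPrime 𝒜 P
local notation "F" => Localization.AtPrime P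

theorem val_mul_den (e : HomogeneousLocalization.NumDenSameDeg 𝒜 P.primeCompl) :
    algebraMap S F (HomogeneousLocalization.mk e) * algebraMap A F (e.den : A) = algebraMap A F (e.num : A) := by
  change Localization.mk _ _ * _ = _
  rw [Localization.mk_eq_mk', IsLocalization.mk'_spec]

theorem mk_mem_maximalIdeal_iff (e : HomogeneousLocalization.NumDenSameDeg 𝒜 P.primeCompl) :
    HomogeneousLocalization.mk e ∈ maximalIdeal S ↔ (e.num : A) ∈ P := by
  rw [mem_maximalIdeal, mem_nonunits_iff, ← HomogeneousLocalization.isUnit_iff_isUnit_val,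
    HomogeneousLocalization.val_mk, Localization.mk_eq_mk']
  exact not_iff_comm.1 ((IsLocalization.AtPrime.isUnit_mk'_iff (Localization.AtPrime P) P _ _).trans Iff.rfl).symm

/-- Degree zero parts of multiples of numerators of an ideal stay in the ideal. -/
theorem mk_component_mem (I : Ideal S) {x : A}
    (hx : x ∈ Ideal.span ((fun e : HomogeneousLocalization.NumDenSameDeg 𝒜 P.primeCompl => (e.num : A)) ''
      {e | HomogeneousLocalization.mk e ∈ I})) (n : ℕ) (D : 𝒜 n) (hD : (D : A) ∈ P.primeCompl) :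
    HomogeneousLocalization.mk ⟨n, decompose 𝒜 x n, D, hD⟩ ∈ I := by
  classical
  suffices ∀ a : A, HomogeneousLocalization.mk ⟨n, decompose 𝒜 (a * x) n, D, hD⟩ ∈ I by simpa using this 1
  induction hx using Submodule.span_induction with
  | mem y hy =>
    obtain ⟨e, he, rfl⟩ := hy
    intro a
    by_cases hle : e.deg ≤ n
    · obtain ⟨m, rfl⟩ : ∃ m, n = m + e.deg := ⟨n - e.deg, by omega⟩
      have hnum : (decompose 𝒜 a m : A) * (e.den : A) ∈ 𝒜 (m + e.deg) := SetLike.mul_mem_graded (decompose 𝒜 a m).2 e.den.2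
      have : HomogeneousLocalization.mk ⟨m + e.deg, decompose 𝒜 (a * (e.num : A)) (m + e.deg), D, hD⟩ =
          HomogeneousLocalization.mk e * HomogeneousLocalization.mk (⟨m + e.deg, ⟨_, hnum⟩, D, hD⟩ :
            HomogeneousLocalization.NumDenSameDeg 𝒜 P.primeCompl) := by
        refine HomogeneousLocalization.val_injective (𝒜 := 𝒜) P.primeCompl ?_
        simp only [HomogeneousLocalization.val_mul, HomogeneousLocalization.val_mk, Localization.mk_mul,
          component_mul e.num.2]
        rw [Localization.mk_eq_mk_iff, Localization.r_iff_exists]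
        exact ⟨1, by simp only [Submonoid.coe_mul, OneMemClass.coe_one, one_mul]; ring⟩
      rw [this]
      exact I.mul_mem_right _ he
    · convert I.zero_mem using 1
      refine HomogeneousLocalization.val_injective (𝒜 := 𝒜) P.primeCompl ?_
      rw [HomogeneousLocalization.val_zero, HomogeneousLocalization.val_mk]
      have h0 : (decompose 𝒜 (a * (e.num : A)) n : A) = 0 := by
        rw [DirectSum.coe_decompose_mul_of_right_mem _ _ e.num.2, if_neg hle]
      simp only [h0, Localization.mk_zero]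
  | zero =>
    intro a
    convert I.zero_mem using 1
    refine HomogeneousLocalization.val_injective (𝒜 := 𝒜) P.primeCompl ?_
    rw [HomogeneousLocalization.val_zero, HomogeneousLocalization.val_mk]
    simp [Localization.mk_zero]
  | add y z _ _ hy hz =>
    intro a
    convert I.add_mem (hy a) (hz a) using 1
    refine HomogeneousLocalization.val_injective (𝒜 := 𝒜) P.primeCompl ?_
    rw [HomogeneousLocalization.val_add, HomogeneousLocalization.val_mk, HomogeneousLocalization.val_mk,
      HomogeneousLocalization.val_mk, Localization.add_mk_self, mul_add, decompose_add, DirectSum.add_apply]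
    rfl
  | smul c y _ hy =>
    intro a
    rw [smul_eq_mul, ← mul_assoc]
    exact hy (a * c)

/-- Ideals of the local ring of `Proj` are contracted. -/
theorem comap_map_eq (I : Ideal S) : (I.map (algebraMap S F)).comap (algebraMap S F) = I := by
  classical
  refine le_antisymm (fun x hx => ?_) Ideal.le_comap_map
  let J : Ideal A := Ideal.span ((fun e : HomogeneousLocalization.NumDenSameDeg 𝒜 P.primeCompl => (e.num : A)) ''
    {e | HomogeneousLocalization.mk e ∈ I})
  have hle : I.map (algebraMap S F) ≤ J.map (algebraMap A F) := by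
    refine Ideal.map_le_iff_le_comap.2 fun z hz => ?_
    obtain ⟨e, rfl⟩ := HomogeneousLocalization.mk_surjective z
    rw [Ideal.mem_comap, ← (J.map (algebraMap A F)).mul_unit_mem_iff_mem
      (IsLocalization.map_units F (⟨(e.den : A), e.den_mem⟩ : P.primeCompl)), val_mul_den]
    exact Ideal.mem_map_of_mem _ (Ideal.subset_span ⟨e, hz, rfl⟩)
  obtain ⟨e, rfl⟩ := HomogeneousLocalization.mk_surjective x
  have hn : algebraMap A F (e.num : A) ∈ J.map (algebraMap A F) := by
    rw [← val_mul_den e]
    exact Ideal.mul_mem_right _ _ (hle hx)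
  obtain ⟨⟨⟨j, hj⟩, w⟩, hw⟩ := (IsLocalization.mem_map_algebraMap_iff P.primeCompl F).1 hn
  rw [← map_mul] at hw
  obtain ⟨v, hv⟩ := (IsLocalization.eq_iff_exists P.primeCompl F).1 hw
  have hmem : ((v : A) * (w : A)) * (e.num : A) ∈ J := by
    have : ((v : A) * (w : A)) * (e.num : A) = (v : A) * j := by rw [← hv]; ring
    rw [this]
    exact J.mul_mem_left _ hj
  have hU : (v : A) * (w : A) ∉ P := P.primeCompl.mul_mem v.2 w.2
  obtain ⟨k, hk⟩ := exists_component_notMem (𝒜 := 𝒜) hU
  have hD : (decompose 𝒜 ((v : A) * (w : A)) k : A) * (e.den : A) ∈ P.primeCompl := P.primeCompl.mul_mem hk e.den_mem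
  convert mk_component_mem I hmem (k + e.deg) ⟨_, SetLike.mul_mem_graded (decompose 𝒜 _ k).2 e.den.2⟩ hD using 1
  refine HomogeneousLocalization.val_injective (𝒜 := 𝒜) P.primeCompl ?_
  rw [HomogeneousLocalization.val_mk, HomogeneousLocalization.val_mk, Localization.mk_eq_mk_iff, Localization.r_iff_exists]
  exact ⟨1, by simp only [component_mul e.num.2, OneMemClass.coe_one, one_mul]; ring⟩

theorem quotSMulTop_equiv {R : Type u} [CommRing R] (J : Ideal R) (z : R) :
    Nonempty (QuotSMulTop z (R ⧸ J) ≃ₗ[R] R ⧸ (J ⊔ Ideal.span {z})) := by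
  have h : (z • ⊤ : Submodule R (R ⧸ J)) = Submodule.map J.mkQ (Ideal.span {z}) := by
    refine le_antisymm (fun m hm => ?_) (fun m hm => ?_)
    · obtain ⟨m', -, rfl⟩ := (Submodule.mem_smul_pointwise_iff_exists _ _ _).1 hm
      obtain ⟨r, rfl⟩ := Submodule.mkQ_surjective J m'
      exact ⟨z • r, Ideal.mul_mem_right r _ (Ideal.mem_span_singleton_self z), map_smul _ _ _⟩
    · obtain ⟨r, hr, rfl⟩ := hm
      obtain ⟨c, rfl⟩ := Ideal.mem_span_singleton.1 hr
      rw [← smul_eq_mul, map_smul]
      exact Submodule.smul_mem_pointwise_smul _ z ⊤ trivial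
  exact ⟨(Submodule.quotEquivOfEq _ _ h).trans (Submodule.quotientQuotientEquivQuotientSup J (Ideal.span {z}))⟩

variable [IsNoetherianRing A] [IsNoetherianRing (HomogeneousLocalization.AtPrime 𝒜 P)]

theorem le_depth (hhom : P.IsHomogeneous 𝒜) (hP : ¬ (HomogeneousIdeal.irrelevant 𝒜).toIdeal ≤ P) (k : ℕ) :
    ∀ I : Ideal S, (k : ℕ∞) ≤ LocCoh.depth F (F ⧸ I.map (algebraMap S F)) → (k : ℕ∞) ≤ LocCoh.depth S (S ⧸ I) := by
  classical
  induction k with
  | zero => intro I _; simp
  | succ k ih =>
    intro I hI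
    have hone : maximalIdeal F ∉ associatedPrimes F (F ⧸ I.map (algebraMap S F)) :=
      (Alg6.one_le_depth_iff).1 (le_trans (by exact_mod_cast Nat.le_add_left 1 k) hI)
    obtain ⟨z, hz, hreg⟩ : ∃ z ∈ maximalIdeal S, IsSMulRegular (F ⧸ I.map (algebraMap S F)) (algebraMap S F z) := by
      by_contra hcon
      simp only [not_exists, not_and] at hcon
      have hfin : (associatedPrimes F (F ⧸ I.map (algebraMap S F))).Finite := associatedPrimes.finite _ _
      have hsub : (maximalIdeal S : Set S) ⊆ ⋃ Q ∈ hfin.toFinset, ((Q : Ideal F).comap (algebraMap S F) : Set S) := by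
        intro z hz
        have := hcon z hz
        rw [Alg6.isSMulRegular_iff_forall_ass] at this
        simp only [not_forall, not_not] at this
        obtain ⟨Q, hQ, hzQ⟩ := this
        exact Set.mem_biUnion (hfin.mem_toFinset.2 hQ) hzQ
      obtain ⟨Q, hQ, hle⟩ := (Ideal.subset_union_prime (f := fun Q : Ideal F => Q.comap (algebraMap S F)) ⊥ ⊥
        (fun Q hQ _ _ => haveI := (hfin.mem_toFinset.1 hQ).isPrime; Ideal.IsPrime.comap _)).1 hsub
      have hQass := hfin.mem_toFinset.1 hQ
      haveI := hQass.isPrime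
      refine hone ?_
      suffices maximalIdeal F ≤ Q by rwa [(maximalIdeal.isMaximal F).eq_of_le hQass.isPrime.ne_top this]
      rw [← Localization.AtPrime.map_eq_maximalIdeal, Ideal.map_le_iff_le_comap]
      obtain ⟨a, ha, haP⟩ := SetLike.not_le_iff_exists.1 hP
      obtain ⟨d, hd⟩ := exists_component_notMem (𝒜 := 𝒜) haP
      have hd0 : d ≠ 0 := by
        rintro rfl
        refine hd ?_
        rw [show (decompose 𝒜 a 0 : A) = 0 from ha]
        exact zero_mem _
      intro x hx
      rw [← DirectSum.sum_support_decompose 𝒜 x]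
      refine Ideal.sum_mem _ fun i _ => ?_
      rw [Ideal.mem_comap]
      let f : HomogeneousLocalization.NumDenSameDeg 𝒜 P.primeCompl :=
        ⟨d * i, ⟨(decompose 𝒜 x i : A) ^ d, by simpa [smul_eq_mul] using SetLike.pow_mem_graded d (decompose 𝒜 x i).2⟩,
          ⟨(decompose 𝒜 a d : A) ^ i, by simpa [smul_eq_mul, mul_comm] using SetLike.pow_mem_graded i (decompose 𝒜 a d).2⟩,
          fun h => hd (‹P.IsPrime›.mem_of_pow_mem i h)⟩
      have hf : algebraMap S F (HomogeneousLocalization.mk f) ∈ Q :=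
        hle ((mk_mem_maximalIdeal_iff f).2 (P.pow_mem_of_mem (hhom i hx) d (Nat.pos_of_ne_zero hd0)))
      refine hQass.isPrime.mem_of_pow_mem d ?_
      rw [← map_pow]
      have := Q.mul_mem_right (algebraMap A F (f.den : A)) hf
      rwa [val_mul_den] at this
    have hzF : algebraMap S F z ∈ maximalIdeal F := by
      rw [mem_maximalIdeal, mem_nonunits_iff]
      exact fun h => hz ((HomogeneousLocalization.isUnit_iff_isUnit_val 𝒜 P z).1 h)
    obtain ⟨eF⟩ := quotSMulTop_equiv (I.map (algebraMap S F)) (algebraMap S F z)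
    obtain ⟨eS⟩ := quotSMulTop_equiv I z
    have h1 := (Hensel.succ_le_depth_iff hzF hreg k).1 hI
    rw [Hensel.depth_congr eF, ← Set.image_singleton, ← Ideal.map_span, ← Ideal.map_sup] at h1
    have hregS : IsSMulRegular (S ⧸ I) z := by
      intro m m' h
      obtain ⟨x, rfl⟩ := Ideal.Quotient.mk_surjective m
      obtain ⟨x', rfl⟩ := Ideal.Quotient.mk_surjective m'
      have hI' : z * x - z * x' ∈ I := Ideal.Quotient.eq.1 h
      refine Ideal.Quotient.eq.2 ?_
      rw [← comap_map_eq (P := P) I, Ideal.mem_comap]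
      refine Ideal.Quotient.eq_zero_iff_mem.1 (hreg ?_)
      change algebraMap S F z • Ideal.Quotient.mk _ (algebraMap S F (x - x')) = algebraMap S F z • (0 : F ⧸ I.map (algebraMap S F))
      rw [smul_zero]
      refine Ideal.Quotient.eq_zero_iff_mem.2 ?_
      change algebraMap S F z * algebraMap S F (x - x') ∈ _
      rw [← map_mul, mul_sub]
      exact Ideal.mem_map_of_mem _ hI'
    refine (Hensel.succ_le_depth_iff hz hregS k).2 ?_
    rw [Hensel.depth_congr eS]
    exact ih _ h1

theorem ringKrullDim_le (hP : ¬ (HomogeneousIdeal.irrelevant 𝒜).toIdeal ≤ P) : ringKrullDim S ≤ ringKrullDim F := by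
  classical
  obtain ⟨a, ha, haP⟩ := SetLike.not_le_iff_exists.1 hP
  obtain ⟨d, hd⟩ := exists_component_notMem (𝒜 := 𝒜) haP
  have hlift : ∀ q : PrimeSpectrum S, ∃ Q : PrimeSpectrum F, Q.asIdeal.comap (algebraMap S F) = q.asIdeal := fun q => by
    obtain ⟨Q, hQp, hQ⟩ := (Ideal.comap_map_eq_self_iff_of_isPrime q.asIdeal).1 (comap_map_eq q.asIdeal)
    exact ⟨⟨Q, hQp⟩, hQ⟩
  choose G hG using hlift
  -- the homogeneous core of the lift
  let H : PrimeSpectrum S → Ideal A := fun q => ((G q).asIdeal.comap (algebraMap A F)).homogeneousCore 𝒜 |>.toIdeal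
  have hHp : ∀ q, (H q).IsPrime := fun q => ((G q).isPrime.comap (algebraMap A F)).homogeneousCore
  have hHle : ∀ q, H q ≤ P := fun q => by
    refine (Ideal.toIdeal_homogeneousCore_le _ _).trans fun x hx => by_contra fun hxP => ?_
    exact (G q).isPrime.ne_top (Ideal.eq_top_of_isUnit_mem _ hx (IsLocalization.map_units F (⟨x, hxP⟩ : P.primeCompl)))
  have hmemH : ∀ q (e : HomogeneousLocalization.NumDenSameDeg 𝒜 P.primeCompl),
      (e.num : A) ∈ H q ↔ HomogeneousLocalization.mk e ∈ q.asIdeal := fun q e => by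
    rw [← hG q, Ideal.mem_comap, ← (G q).asIdeal.mul_unit_mem_iff_mem
      (IsLocalization.map_units F (⟨(e.den : A), e.den_mem⟩ : P.primeCompl)), val_mul_den]
    exact ⟨fun h => (Ideal.toIdeal_homogeneousCore_le _ _ h :),
      fun h => Ideal.mem_homogeneousCore_of_homogeneous_of_mem ⟨e.deg, e.num.2⟩ h⟩
  let g : PrimeSpectrum S → PrimeSpectrum F := fun q =>
    ⟨(H q).map (algebraMap A F),
      IsLocalization.isPrime_of_isPrime_disjoint P.primeCompl F _ (hHp q)
        (Set.disjoint_left.2 fun x hx hxH => hx (hHle q hxH))⟩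
  have hgc : ∀ q, (g q).asIdeal.comap (algebraMap A F) = H q := fun q => by
    haveI := hHp q
    exact IsLocalization.comap_map_of_isPrime_disjoint P.primeCompl F ‹_› (Set.disjoint_left.2 fun x hx hxH => hx (hHle q hxH))
  refine Order.krullDim_le_of_strictMono g fun q q' hlt => ?_
  have hne : H q ≠ H q' := fun h => by
    refine hlt.ne (PrimeSpectrum.ext (Ideal.ext fun x => ?_))
    obtain ⟨e, rfl⟩ := HomogeneousLocalization.mk_surjective x
    rw [← hmemH, ← hmemH, h]
  have hle : H q ≤ H q' := fun x hx => by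
    rw [← DirectSum.sum_support_decompose 𝒜 x]
    refine Ideal.sum_mem _ fun i _ => ?_
    have hi : (decompose 𝒜 x i : A) ∈ H q := HomogeneousIdeal.isHomogeneous _ i hx
    let f : HomogeneousLocalization.NumDenSameDeg 𝒜 P.primeCompl :=
      ⟨d * i, ⟨(decompose 𝒜 x i : A) ^ d, by simpa [smul_eq_mul] using SetLike.pow_mem_graded d (decompose 𝒜 x i).2⟩,
        ⟨(decompose 𝒜 a d : A) ^ i, by simpa [smul_eq_mul, mul_comm] using SetLike.pow_mem_graded i (decompose 𝒜 a d).2⟩,
        fun h => hd (‹P.IsPrime›.mem_of_pow_mem i h)⟩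
    have hd0 : d ≠ 0 := by
      rintro rfl
      refine hd ?_
      rw [show (decompose 𝒜 a 0 : A) = 0 from ha]
      exact zero_mem _
    exact (hHp q').mem_of_pow_mem d ((hmemH q' f).2 (PrimeSpectrum.asIdeal_le_asIdeal _ _ |>.2 hlt.le
      ((hmemH q f).1 ((H q).pow_mem_of_mem hi d (Nat.pos_of_ne_zero hd0)))))
  refine lt_of_le_of_ne (PrimeSpectrum.asIdeal_le_asIdeal _ _ |>.1 (Ideal.map_mono hle)) fun h => hne ?_
  rw [← hgc q, ← hgc q', h]

theorem isCohenMacaulayLocalRing [LocCoh.IsCohenMacaulayLocalRing (Localization.AtPrime P)]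
    (hhom : P.IsHomogeneous 𝒜) (hP : ¬ (HomogeneousIdeal.irrelevant 𝒜).toIdeal ≤ P) :
    LocCoh.IsCohenMacaulayLocalRing S := by
  refine { supportDim_eq_depth := le_antisymm ?_ (LC.depth_le_supportDim S) }
  rw [Module.supportDim_self_eq_ringKrullDim]
  refine (ringKrullDim_le hP).trans ?_
  rw [← Module.supportDim_self_eq_ringKrullDim, LocCoh.IsCohenMacaulayLocalRing.supportDim_eq_depth]
  refine WithBot.coe_le_coe.2 (ENat.forall_natCast_le_iff_le.1 fun k hk => ?_)
  let e₁ : (F ⧸ (⊥ : Ideal S).map (algebraMap S F)) ≃ₗ[F] F := Submodule.quotEquivOfEqBot _ (by simp)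
  let e₂ : (S ⧸ (⊥ : Ideal S)) ≃ₗ[S] S := Submodule.quotEquivOfEqBot _ rfl
  have h := le_depth hhom hP k ⊥ (by rw [Hensel.depth_congr e₁]; exact hk)
  rwa [Hensel.depth_congr e₂] at h

end Groth.Agent.H6ProjLocal
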